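import Groth.Agent.Lib.Birat.NormalPoint
import Mathlib.AlgebraicGeometry.ZariskisMainTheorem

/-!
# Birational separated quasi-finite morphisms to normal schemes
-/

universe u

namespace GrothLib.Birat

open AlgebraicGeometry CategoryTheory

variable {X Y : Scheme.{u}} [IsIntegral X] [IsIntegral Y] (g : X ⟶ Y)
  (e : g (genericPoint X) = genericPoint Y)
  (hb : Function.Bijective (g.stalkMap (genericPoint X)).hom)
  (hN : ∀ y, IsIntegrallyClosed (Y.presheaf.stalk y))

include e hb hN

/-- A separated quasi-finite birational morphism to a normal scheme is an open immersion. -/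
theorem isOpenImmersion_of_lqf_birational [IsSeparated g] [LocallyOfFiniteType g]
    [LocallyQuasiFinite g] : IsOpenImmersion g := by
  have hex : ∀ x : X, ∃ D : Y.Opens, g x ∈ D ∧ IsIso (g ∣_ D) := fun x => by
    have := hN (g x)
    exact exists_isIso_morphismRestrict g e hb x (g.quasiFiniteAt x)
  choose D hD hi using hex
  let O : Y.Opens := ⨆ x, D x
  have h : g ⁻¹ᵁ O = ⊤ := top_le_iff.mp fun x _ => TopologicalSpace.Opens.mem_iSup.mpr ⟨x, hD x⟩
  haveI : IsIso (g ∣_ O) := by
    refine (IsZariskiLocalAtTarget.iff_of_iSup_eq_top (P := MorphismProperty.isomorphisms Scheme.{u})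
      (fun x : X => O.ι ⁻¹ᵁ D x) ?_).mpr fun x => ?_
    · exact (Scheme.Hom.preimage_iSup _ _).symm.trans (Scheme.Opens.ι_preimage_self O)
    · refine ((MorphismProperty.isomorphisms Scheme.{u}).arrow_mk_iso_iff
        (morphismRestrictRestrict g O (O.ι ⁻¹ᵁ D x))).mpr ?_
      rw [Scheme.Hom.image_preimage_eq_opensRange_inf, Scheme.Opens.opensRange_ι,
        inf_eq_right.mpr (le_iSup D x)]
      exact hi x
  have hg : g = X.topIso.inv ≫ (X.isoOfEq h).inv ≫ (g ∣_ O) ≫ O.ι := by
    rw [morphismRestrict_ι]; simp
  rw [hg]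
  infer_instance

/-- A finite birational morphism to a normal scheme is an isomorphism. -/
theorem isIso_of_finite_birational [IsFinite g] : IsIso g := by
  haveI := isOpenImmersion_of_lqf_birational g e hb hN
  haveI : Surjective g := ⟨fun y => by
    have h1 : closure ({genericPoint Y} : Set Y) ⊆ Set.range g :=
      g.isClosedMap.isClosed_range.closure_subset_iff.mpr
        (Set.singleton_subset_iff.mpr ⟨_, e⟩)
    exact h1 ((genericPoint_spec Y).symm ▸ Set.mem_univ y)⟩
  haveI : Epi g.base := (TopCat.epi_iff_surjective _).mpr g.surjective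
  exact IsOpenImmersion.isIso g

end GrothLib.Birat
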