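import Groth.Agent.Lib.CurvePoints.Basic
import Groth.Agent.Lib.NormalExt.Basic
import Groth.Agent.Lib.FFDesc.Basic
import Mathlib.AlgebraicGeometry.ZariskisMainTheorem
import Mathlib.AlgebraicGeometry.Morphisms.LocalIso
import Mathlib.RingTheory.Ideal.KrullsHeightTheorem

/-!
# Birational morphisms: Zariski's main theorem and purity of the exceptional locus
-/

universe u

namespace GrothLib.Birat

open AlgebraicGeometry CategoryTheory IsLocalRing

variable {X Y : Scheme.{u}}

section generic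

variable [IsIntegral X] [IsIntegral Y] (g : X ⟶ Y)

theorem genericPoint_mem {W : X.Opens} (hW : (W : Set X).Nonempty) : genericPoint X ∈ W := by
  obtain ⟨w, hw⟩ := hW
  exact ((genericPoint_spec X).specializes trivial).mem_open W.2 hw

theorem birational_of_openImmersion (hV : ∃ (W : X.Opens), (W : Set X).Nonempty ∧ IsOpenImmersion (W.ι ≫ g)) :
    g (genericPoint X) = genericPoint Y ∧ Function.Bijective (g.stalkMap (genericPoint X)).hom := by
  obtain ⟨W, hW, hi⟩ := hV
  have : Nonempty (W : Scheme.{u}) := ⟨⟨_, genericPoint_mem hW⟩⟩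
  have : IsIntegral (W : Scheme.{u}) := isIntegral_of_isOpenImmersion W.ι
  have e1 : W.ι (genericPoint W) = genericPoint X := genericPoint_eq_of_isOpenImmersion W.ι
  have e2 : (W.ι ≫ g) (genericPoint W) = genericPoint Y := genericPoint_eq_of_isOpenImmersion (W.ι ≫ g)
  refine ⟨by rw [← e1, ← e2]; rfl, ?_⟩
  have hbi : ∀ x, W.ι (genericPoint W) = x → Function.Bijective (g.stalkMap x).hom := by
    rintro x rfl
    have h := ConcreteCategory.bijective_of_isIso ((W.ι ≫ g).stalkMap (genericPoint W))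
    rw [Scheme.Hom.stalkMap_comp] at h
    have h' := ConcreteCategory.bijective_of_isIso (W.ι.stalkMap (genericPoint W))
    exact (Function.Bijective.of_comp_iff' h' (g.stalkMap (W.ι (genericPoint W))).hom).mp h
  exact hbi _ e1

end generic

/-- Points of `Spec O_x` have the expected local dimension. -/
theorem ringKrullDim_stalk_fromSpecStalk (x : X) (P : Spec (X.presheaf.stalk x)) :
    ringKrullDim (X.presheaf.stalk (X.fromSpecStalk x P)) = P.asIdeal.height := by
  have hbij : Function.Bijective ((X.fromSpecStalk x).stalkMap P).hom := by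
    refine ⟨?_, (X.fromSpecStalk x).stalkMap_surjective P⟩
    haveI := GrothLib.FFDesc.flat_fromSpecStalk' X x
    have hf := Flat.stalkMap (X.fromSpecStalk x) P
    letI := ((X.fromSpecStalk x).stalkMap P).hom.toAlgebra
    haveI : Module.Flat _ _ := hf
    haveI : IsLocalHom (algebraMap (X.presheaf.stalk (X.fromSpecStalk x P))
        ((Spec (X.presheaf.stalk x)).presheaf.stalk P)) :=
      inferInstanceAs (IsLocalHom ((X.fromSpecStalk x).stalkMap P).hom)
    haveI := Module.FaithfullyFlat.of_flat_of_isLocalHom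
      (A := X.presheaf.stalk (X.fromSpecStalk x P)) (B := (Spec (X.presheaf.stalk x)).presheaf.stalk P)
    exact (FaithfulSMul.algebraMap_injective _ _ :
      Function.Injective (algebraMap (X.presheaf.stalk (X.fromSpecStalk x P))
        ((Spec (X.presheaf.stalk x)).presheaf.stalk P)))
  rw [ringKrullDim_eq_of_ringEquiv (RingEquiv.ofBijective _ hbij)]
  let k : Algebra (X.presheaf.stalk x) ((Spec (X.presheaf.stalk x)).presheaf.stalk P) :=
    StructureSheaf.stalkAlgebra _ P
  haveI : P.asIdeal.IsPrime := P.2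
  haveI : IsLocalization.AtPrime ((Spec (X.presheaf.stalk x)).presheaf.stalk P) P.asIdeal :=
    StructureSheaf.IsLocalization.to_stalk _ P
  exact IsLocalization.AtPrime.ringKrullDim_eq_height P.asIdeal _

/-- A prime of a unique factorisation domain containing two coprime elements has height at least two. -/
theorem two_le_height_of_coprime {A : Type u} [CommRing A] [IsDomain A] [UniqueFactorizationMonoid A]
    (P : Ideal A) [P.IsPrime] {a c : A} (hc : c ≠ 0) (hcP : c ∈ P) (haP : a ∈ P)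
    (hcop : IsRelPrime a c) : 2 ≤ P.height := by
  obtain ⟨p, hpP, hp⟩ := Ideal.IsPrime.exists_mem_prime_of_ne_bot ‹P.IsPrime›
    (fun h => hc (by rw [h] at hcP; exact hcP))
  haveI : (Ideal.span {p}).IsPrime := (Ideal.span_singleton_prime hp.ne_zero).mpr hp
  have h1 : (⊥ : Ideal A) < Ideal.span {p} :=
    bot_lt_iff_ne_bot.mpr (by simpa using hp.ne_zero)
  have h2 : Ideal.span {p} < P := by
    refine lt_of_le_of_ne ((Ideal.span_singleton_le_iff_mem P).mpr hpP) fun h => ?_
    rw [← h, Ideal.mem_span_singleton] at hcP haP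
    exact hp.not_unit (hcop haP hcP)
  haveI : (⊥ : Ideal A).IsPrime := Ideal.isPrime_bot
  have h3 := Ideal.height_add_one_le_of_lt_of_isPrime h1
  have h4 := Ideal.height_add_one_le_of_lt_of_isPrime h2
  calc (2 : ℕ∞) = 1 + 1 := rfl
    _ ≤ (Ideal.span {p}).height + 1 := by gcongr; exact le_add_self.trans h3
    _ ≤ P.height := h4

variable [IsIntegral X] [IsIntegral Y] (g : X ⟶ Y)
  (e : g (genericPoint X) = genericPoint Y) (hb : Function.Bijective (g.stalkMap (genericPoint X)).hom)

include e hb in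
/-- Sections of the source are fractions of sections of the target. -/
theorem exists_mul_eq_of_birational {U : Y.Opens} (hU : IsAffineOpen U) {W : X.Opens}
    (hW : W ≤ g ⁻¹ᵁ U) [Nonempty W] (b : Γ(X, W)) :
    ∃ a s : Γ(Y, U), s ≠ 0 ∧ b * g.appLE U W hW s = g.appLE U W hW a := by
  haveI : Nonempty U := ⟨⟨g (Classical.arbitrary W).1, hW (Classical.arbitrary W).2⟩⟩
  have hgX : genericPoint X ∈ W :=
    genericPoint_mem ⟨_, (Classical.arbitrary W).2⟩
  have hgY : g (genericPoint X) ∈ U := hW hgX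
  have key : ∀ y, g (genericPoint X) = y → ∀ (hy : y ∈ U) (k : Y.presheaf.stalk y),
      ∃ a s : Γ(Y, U), s ≠ 0 ∧ k * Y.presheaf.germ U y hy s = Y.presheaf.germ U y hy a := by
    intro y hy
    rw [e] at hy
    subst hy
    intro hy k
    haveI := functionField_isFractionRing_of_isAffineOpen Y U hU
    obtain ⟨⟨a, s⟩, h⟩ := IsLocalization.surj (nonZeroDivisors Γ(Y, U)) (show Y.functionField from k)
    exact ⟨a, s, nonZeroDivisors.ne_zero s.2, h⟩
  obtain ⟨k, hk⟩ := hb.2 (X.presheaf.germ W _ hgX b)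
  obtain ⟨a, s, hs, has⟩ := key _ rfl hgY k
  refine ⟨a, s, hs, germ_injective_of_isIntegral X (genericPoint X) hgX ?_⟩
  have hg : ∀ t : Γ(Y, U), X.presheaf.germ W _ hgX (g.appLE U W hW t) =
      g.stalkMap (genericPoint X) (Y.presheaf.germ U _ hgY t) := fun t => by
    rw [Scheme.Hom.germ_stalkMap_apply, Scheme.Hom.appLE, CommRingCat.comp_apply,
      TopCat.Presheaf.germ_res_apply]
  rw [map_mul, hg, hg, ← has, map_mul]
  exact congrArg (· * _) hk.symm

include e hb in
/-- Zariski's main theorem: a birational morphism to a normal scheme is a local isomorphism at its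
quasi-finite points. -/
theorem exists_isOpenImmersion_of_quasiFiniteAt [LocallyOfFiniteType g]
    (hN : ∀ y, IsIntegrallyClosed (Y.presheaf.stalk y)) {x : X} (hx : g.QuasiFiniteAt x) :
    ∃ W : X.Opens, x ∈ W ∧ IsOpenImmersion (W.ι ≫ g) := by
  obtain ⟨_, ⟨U, hU, rfl⟩, hxU, -⟩ :=
    Y.isBasis_affineOpens.exists_subset_of_mem_open (Set.mem_univ (g x)) isOpen_univ
  obtain ⟨_, ⟨W, hW, rfl⟩, hxW, hWU⟩ :=
    X.isBasis_affineOpens.exists_subset_of_mem_open (a := x) hxU (g ⁻¹ᵁ U).2
  have hWU' : W ≤ g ⁻¹ᵁ U := hWU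
  haveI : Nonempty W := ⟨⟨x, hxW⟩⟩
  haveI : Nonempty U := ⟨⟨g x, hxU⟩⟩
  have hq := hx.quasiFiniteAt hW hU hWU' hxW
  have hft := g.finiteType_appLE hU hW hWU'
  let q := (hW.primeIdealOf ⟨x, hxW⟩).asIdeal
  letI := (g.appLE U W hWU').hom.toAlgebra
  haveI : Algebra.FiniteType Γ(Y, U) Γ(X, W) := hft
  haveI : Algebra.QuasiFiniteAt Γ(Y, U) q := hq
  haveI : IsIntegrallyClosed Γ(Y, U) := GrothLib.NormalExt.isIntegrallyClosed_Γ hN U hU
  have hfrac : ∀ b : Γ(X, W), ∃ a s : Γ(Y, U), s ≠ 0 ∧
      b * algebraMap Γ(Y, U) Γ(X, W) s = algebraMap Γ(Y, U) Γ(X, W) a :=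
    exists_mul_eq_of_birational g e hb hU hWU'
  have hinj : Function.Injective (algebraMap Γ(Y, U) Γ(X, W)) := by
    have hgX : genericPoint X ∈ W := genericPoint_mem ⟨x, hxW⟩
    have h1 : Function.Injective ((Y.presheaf.germ U _ (hWU' hgX)) ≫ g.stalkMap (genericPoint X)).hom := by
      rw [CommRingCat.hom_comp, RingHom.coe_comp]
      exact hb.1.comp (germ_injective_of_isIntegral Y _ (hWU' hgX))
    intro s t hst
    apply h1
    simp only [CommRingCat.hom_comp, RingHom.comp_apply]
    erw [Scheme.Hom.germ_stalkMap_apply, Scheme.Hom.germ_stalkMap_apply]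
    have := congrArg (X.presheaf.germ W _ hgX) hst
    rw [show algebraMap Γ(Y, U) Γ(X, W) = (g.appLE U W hWU').hom from rfl] at this
    simp only [Scheme.Hom.appLE, CommRingCat.comp_apply, TopCat.Presheaf.germ_res_apply] at this
    exact this
  have hint : ∀ b : Γ(X, W), IsIntegral Γ(Y, U) b → ∃ a, algebraMap Γ(Y, U) Γ(X, W) a = b := by
    intro b hb'
    obtain ⟨a, s, hs, hbs⟩ := hfrac b
    let K := FractionRing Γ(Y, U)
    let L := FractionRing Γ(X, W)
    have hi : Function.Injective (algebraMap Γ(Y, U) L) := by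
      rw [IsScalarTower.algebraMap_eq Γ(Y, U) Γ(X, W) L, RingHom.coe_comp]
      exact (IsFractionRing.injective Γ(X, W) L).comp hinj
    letI : Algebra K L := (IsFractionRing.lift hi).toAlgebra
    haveI : IsScalarTower Γ(Y, U) K L :=
      IsScalarTower.of_algebraMap_eq fun t => (IsFractionRing.lift_algebraMap hi t).symm
    have hs' : algebraMap Γ(Y, U) K s ≠ 0 := by
      rwa [Ne, IsFractionRing.to_map_eq_zero_iff]
    let k : K := algebraMap Γ(Y, U) K a / algebraMap Γ(Y, U) K s
    have hk : algebraMap K L k = algebraMap Γ(X, W) L b := by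
      have h0 : algebraMap K L (algebraMap Γ(Y, U) K s) ≠ 0 := by
        rw [map_ne_zero_iff _ (algebraMap K L).injective]; exact hs'
      rw [map_div₀, div_eq_iff h0, ← IsScalarTower.algebraMap_apply, ← IsScalarTower.algebraMap_apply,
        IsScalarTower.algebraMap_apply Γ(Y, U) Γ(X, W) L s, IsScalarTower.algebraMap_apply Γ(Y, U) Γ(X, W) L a,
        ← map_mul, hbs]
    have hki : IsIntegral Γ(Y, U) k := by
      rw [← isIntegral_algHom_iff (IsScalarTower.toAlgHom Γ(Y, U) K L) (algebraMap K L).injective]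
      show IsIntegral Γ(Y, U) (algebraMap K L k)
      rw [hk]
      exact hb'.map (IsScalarTower.toAlgHom Γ(Y, U) Γ(X, W) L)
    obtain ⟨c, hc⟩ := IsIntegrallyClosed.isIntegral_iff.mp hki
    refine ⟨c, IsFractionRing.injective Γ(X, W) L ?_⟩
    rw [← hk, ← hc, ← IsScalarTower.algebraMap_apply, ← IsScalarTower.algebraMap_apply]
  obtain ⟨r, hr, hri, hall⟩ := Algebra.zariskisMainProperty_iff.mp
    (Algebra.ZariskisMainProperty.of_finiteType (R := Γ(Y, U)) q)
  obtain ⟨r0, rfl⟩ := hint r hri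
  let D : Y.Opens := Y.basicOpen r0
  let D' : X.Opens := X.basicOpen (g.appLE U W hWU' r0)
  have hD : D' ≤ g ⁻¹ᵁ D := by
    show X.basicOpen _ ≤ g ⁻¹ᵁ Y.basicOpen r0
    simp [Scheme.Hom.appLE]
  haveI := hU.isLocalization_basicOpen r0
  haveI := hW.isLocalization_basicOpen (g.appLE U W hWU' r0)
  have hbij : Function.Bijective (g.appLE D D' hD).hom := by
    rw [IsAffineOpen.appLE_eq_away_map g hU hW hWU' r0, CommRingCat.hom_ofHom]
    refine ⟨IsLocalization.map_injective_of_injective _ _ _ hinj, fun z => ?_⟩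
    obtain ⟨⟨b, t⟩, hz⟩ := IsLocalization.surj (Submonoid.powers (g.appLE U W hWU' r0)) z
    obtain ⟨n, hn⟩ := t.2
    obtain ⟨m, hm⟩ := hall b
    obtain ⟨a, ha⟩ := hint _ hm
    refine ⟨IsLocalization.mk' _ a (⟨r0 ^ (m + n), m + n, rfl⟩ : Submonoid.powers r0), ?_⟩
    rw [IsLocalization.Away.map, IsLocalization.map_mk', IsLocalization.mk'_eq_iff_eq_mul]
    show _ = z * algebraMap Γ(X, W) _ ((g.appLE U W hWU').hom (r0 ^ (m + n)))
    have ht : (t : Γ(X, W)) = (g.appLE U W hWU' r0) ^ n := hn.symm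
    rw [ht] at hz
    rw [map_pow, pow_add, map_mul, mul_comm (algebraMap Γ(X, W) _ ((g.appLE U W hWU').hom r0 ^ m)),
      ← mul_assoc, hz, ← map_mul]
    show algebraMap Γ(X, W) _ (algebraMap Γ(Y, U) Γ(X, W) a) = _
    rw [ha, mul_comm]
    rfl
  refine ⟨D', ?_, ?_⟩
  · rw [Scheme.mem_basicOpen X _ x hxW]
    letI := TopCat.Presheaf.algebra_section_stalk X.presheaf (⟨x, hxW⟩ : W)
    haveI := hW.isLocalization_stalk ⟨x, hxW⟩
    exact (IsLocalization.AtPrime.isUnit_to_map_iff (X.presheaf.stalk x) q _).mpr hr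
  · haveI : IsIso (g.appLE D D' hD) := (ConcreteCategory.isIso_iff_bijective _).mpr hbij
    have hDa : IsAffineOpen D := hU.basicOpen r0
    have hD'a : IsAffineOpen D' := hW.basicOpen _
    have h1 := IsAffineOpen.SpecMap_appLE_fromSpec g hDa hD'a hD
    have h2 : D'.ι ≫ g = hD'a.isoSpec.hom ≫ Spec.map (g.appLE D D' hD) ≫ hDa.fromSpec := by
      rw [h1, IsAffineOpen.isoSpec_hom_fromSpec_assoc]
    rw [h2]
    infer_instance

include e hb in
/-- The stalk map at a point whose local ring has dimension at least two is bijective, if the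
morphism is an isomorphism on stalks at all proper generizations and the target is factorial. -/
theorem stalkMap_bijective_of_two_le [IsLocallyNoetherian X]
    (hY : ∀ y, UniqueFactorizationMonoid (Y.presheaf.stalk y)) (ξ : X)
    (hdim : (2 : WithBot ℕ∞) ≤ ringKrullDim (X.presheaf.stalk ξ))
    (hgen : ∀ η : X, η ⤳ ξ → η ≠ ξ → Function.Bijective (g.stalkMap η).hom) :
    Function.Bijective (g.stalkMap ξ).hom := by
  have hinj := GrothLib.CurvePoints.stalkMap_injective g e ξ
  haveI := hY (g ξ)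
  refine ⟨hinj, fun b => ?_⟩
  have hs : genericPoint X ⤳ ξ := (genericPoint_spec X).specializes trivial
  have hsy : g (genericPoint X) ⤳ g ξ := hs.map g.continuous
  have hK : ∀ c : Y.presheaf.stalk (g (genericPoint X)), ∃ a s : Y.presheaf.stalk (g ξ), s ≠ 0 ∧
      c * Y.presheaf.stalkSpecializes hsy s = Y.presheaf.stalkSpecializes hsy a := by
    revert hsy
    rw [e]
    intro hsy c
    obtain ⟨⟨a, s⟩, h⟩ := IsLocalization.surj (nonZeroDivisors (Y.presheaf.stalk (g ξ)))
      (show Y.functionField from c)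
    exact ⟨a, s, nonZeroDivisors.ne_zero s.2, h⟩
  have key : ∀ t, X.presheaf.stalkSpecializes hs (g.stalkMap ξ t) =
      g.stalkMap (genericPoint X) (Y.presheaf.stalkSpecializes hsy t) :=
    fun t => (congr($(Scheme.Hom.stalkSpecializes_stalkMap g (genericPoint X) ξ hs) t)).symm
  obtain ⟨k, hk⟩ := hb.2 (X.presheaf.stalkSpecializes hs b)
  obtain ⟨a₀, s₀, hs0, has⟩ := hK k
  have hb0 : b * g.stalkMap ξ s₀ = g.stalkMap ξ a₀ := by
    refine GrothLib.CurvePoints.stalkSpecializes_injective (Y := X) rfl hs ?_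
    rw [map_mul, key, key, ← has, map_mul]
    exact congrArg (· * _) hk.symm
  obtain ⟨a, c, d, hcop, ha, hc⟩ := UniqueFactorizationMonoid.exists_reduced_factors' a₀ s₀ hs0
  have hd : d ≠ 0 := fun h => hs0 (by rw [← hc, h, zero_mul])
  have hc0 : c ≠ 0 := fun h => hs0 (by rw [← hc, h, mul_zero])
  have hbc : b * g.stalkMap ξ c = g.stalkMap ξ a := by
    refine mul_left_cancel₀ (fun h => hd (hinj (h.trans (map_zero _).symm))) ?_
    rw [← ha, ← hc] at hb0
    rw [map_mul, map_mul] at hb0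
    rw [← mul_assoc, mul_comm _ b, mul_assoc, hb0]
  by_cases hcu : IsUnit c
  · obtain ⟨u, rfl⟩ := hcu
    refine ⟨a * ↑u⁻¹, ?_⟩
    show g.stalkMap ξ (a * ↑u⁻¹) = b
    rw [map_mul, ← hbc, mul_assoc, ← map_mul, Units.mul_inv, map_one, mul_one]
  exfalso
  let φ := (g.stalkMap ξ).hom
  have hcB : ¬ IsUnit (φ c) := fun h => hcu (isUnit_of_map_unit φ c h)
  have hne : Ideal.span {φ c} ≠ ⊤ := fun h => hcB (Ideal.span_singleton_eq_top.mp h)
  obtain ⟨P, hP⟩ := Ideal.nonempty_minimalPrimes hne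
  haveI : P.IsPrime := hP.1.1
  have hle : P.height ≤ 1 := Ideal.height_le_one_of_isPrincipal_of_mem_minimalPrimes _ P hP
  have hcP : φ c ∈ P := hP.1.2 (Ideal.mem_span_singleton_self _)
  have haP : φ a ∈ P := hbc ▸ P.mul_mem_left b hcP
  let pt : Spec (X.presheaf.stalk ξ) := ⟨P, inferInstance⟩
  let η := X.fromSpecStalk ξ pt
  have hηs : η ⤳ ξ := by
    have : η ∈ Set.range (X.fromSpecStalk ξ) := ⟨pt, rfl⟩
    rwa [Scheme.range_fromSpecStalk] at this
  have hdη : ringKrullDim (X.presheaf.stalk η) = P.height := ringKrullDim_stalk_fromSpecStalk ξ pt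
  have hne' : η ≠ ξ := fun h => by
    have h2 : (2 : WithBot ℕ∞) ≤ ringKrullDim (X.presheaf.stalk η) := by rw [h]; exact hdim
    rw [hdη] at h2
    have h3 : (2 : ℕ∞) ≤ P.height := WithBot.coe_le_coe.mp h2
    exact absurd (h3.trans hle) (by decide)
  have hiso := hgen η hηs hne'
  have he : g η = Y.fromSpecStalk (g ξ) (Spec.map (g.stalkMap ξ) pt) :=
    (congr($(Scheme.SpecMap_stalkMap_fromSpecStalk g (x := ξ)) pt)).symm
  have hdim2 : ringKrullDim (Y.presheaf.stalk (g η)) = (P.comap φ).height := by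
    rw [he]
    exact ringKrullDim_stalk_fromSpecStalk (g ξ) (Spec.map (g.stalkMap ξ) pt)
  have h4 : ringKrullDim (Y.presheaf.stalk (g η)) = ringKrullDim (X.presheaf.stalk η) :=
    ringKrullDim_eq_of_ringEquiv (RingEquiv.ofBijective _ hiso)
  rw [hdim2, hdη] at h4
  have h5 : (P.comap φ).height = P.height := WithBot.coe_inj.mp h4
  have h6 := two_le_height_of_coprime (P.comap φ) hc0 hcP haP hcop
  rw [h5] at h6
  exact absurd (h6.trans hle) (by decide)

end GrothLib.Birat
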