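import Groth.Agent.Lib.Birat.Basic

/-!
# A proper birational morphism is an isomorphism over a normal point with a quasi-finite preimage
-/

universe u

namespace GrothLib.Birat

open AlgebraicGeometry CategoryTheory IsLocalRing

/-- Zariski's main theorem at a prime lying over a prime with integrally closed local ring. -/
theorem exists_forall_mul_pow_eq {A B O : Type u} [CommRing A] [IsDomain A] [CommRing B] [IsDomain B]
    [Algebra A B] [Algebra.FiniteType A B] (p : Ideal A) [p.IsPrime] [CommRing O] [IsDomain O]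
    [IsIntegrallyClosed O] [Algebra A O] [IsLocalization.AtPrime O p]
    (q : Ideal B) [q.IsPrime] [Algebra.QuasiFiniteAt A q] (hpq : q.comap (algebraMap A B) = p)
    (hinj : Function.Injective (algebraMap A B))
    (hfrac : ∀ b : B, ∃ a s : A, s ≠ 0 ∧ b * algebraMap A B s = algebraMap A B a) :
    ∃ t : A, t ∉ p ∧ ∀ b : B, ∃ (n : ℕ) (a : A), b * algebraMap A B t ^ n = algebraMap A B a := by
  classical
  have hAO : Function.Injective (algebraMap A O) :=
    IsLocalization.injective O p.primeCompl_le_nonZeroDivisors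
  let K := FractionRing A
  let L := FractionRing O
  have hi : Function.Injective (algebraMap A L) := by
    rw [IsScalarTower.algebraMap_eq A O L, RingHom.coe_comp]
    exact (IsFractionRing.injective O L).comp hAO
  letI : Algebra K L := (IsFractionRing.lift hi).toAlgebra
  haveI : IsScalarTower A K L :=
    IsScalarTower.of_algebraMap_eq fun t => (IsFractionRing.lift_algebraMap hi t).symm
  let F := FractionRing B
  have hiF : Function.Injective (algebraMap A F) := by
    rw [IsScalarTower.algebraMap_eq A B F, RingHom.coe_comp]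
    exact (IsFractionRing.injective B F).comp hinj
  letI : Algebra K F := (IsFractionRing.lift hiF).toAlgebra
  haveI : IsScalarTower A K F :=
    IsScalarTower.of_algebraMap_eq fun t => (IsFractionRing.lift_algebraMap hiF t).symm
  have hint : ∀ b : B, IsIntegral A b → ∃ a s : A, s ∉ p ∧ b * algebraMap A B s = algebraMap A B a := by
    intro b hb
    obtain ⟨a, s, hs, hbs⟩ := hfrac b
    have hs' : algebraMap A K s ≠ 0 := by
      rwa [Ne, IsFractionRing.to_map_eq_zero_iff]
    let k : K := algebraMap A K a / algebraMap A K s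
    have hk : algebraMap K F k = algebraMap B F b := by
      have h0 : algebraMap K F (algebraMap A K s) ≠ 0 := by
        rw [map_ne_zero_iff _ (algebraMap K F).injective]; exact hs'
      rw [map_div₀, div_eq_iff h0, ← IsScalarTower.algebraMap_apply, ← IsScalarTower.algebraMap_apply,
        IsScalarTower.algebraMap_apply A B F s, IsScalarTower.algebraMap_apply A B F a, ← map_mul, hbs]
    have hki : IsIntegral A k := by
      rw [← isIntegral_algHom_iff (IsScalarTower.toAlgHom A K F) (algebraMap K F).injective]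
      show IsIntegral A (algebraMap K F k)
      rw [hk]
      exact hb.map (IsScalarTower.toAlgHom A B F)
    have hkO : IsIntegral O (algebraMap K L k) := (hki.map (IsScalarTower.toAlgHom A K L)).tower_top
    obtain ⟨c, hc⟩ := IsIntegrallyClosed.isIntegral_iff.mp hkO
    obtain ⟨⟨a', s'⟩, hc'⟩ := IsLocalization.surj p.primeCompl c
    refine ⟨a', s', s'.2, mul_right_cancel₀ ((map_ne_zero_iff _ hinj).mpr hs) ?_⟩
    have hE : a * (s' : A) = a' * s := by
      apply hi
      have h1 := congrArg (algebraMap O L) hc'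
      rw [map_mul, hc, ← IsScalarTower.algebraMap_apply, ← IsScalarTower.algebraMap_apply] at h1
      have h2 : algebraMap K L k * algebraMap A L s = algebraMap A L a := by
        rw [IsScalarTower.algebraMap_apply A K L s, ← map_mul, div_mul_cancel₀ _ hs',
          ← IsScalarTower.algebraMap_apply]
      rw [map_mul, map_mul, ← h1, ← h2]
      ring
    rw [← map_mul, ← hE, map_mul, ← hbs]
    ring
  obtain ⟨r, hr, hri, hall⟩ := Algebra.zariskisMainProperty_iff.mp
    (Algebra.ZariskisMainProperty.of_finiteType (R := A) q)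
  obtain ⟨a₀, s₀, hs₀, hr₀⟩ := hint r hri
  have ha₀ : a₀ ∉ p := by
    intro h
    rw [← hpq, Ideal.mem_comap, ← hr₀] at h
    exact ((inferInstance : q.IsPrime).mem_or_mem h).elim hr
      (fun h' => hs₀ (hpq ▸ Ideal.mem_comap.mpr h'))
  have key : ∀ b : B, ∃ (s a : A), s ∉ p ∧ b * algebraMap A B s = algebraMap A B a := by
    intro b
    obtain ⟨m, hm⟩ := hall b
    obtain ⟨a, s, hs, h⟩ := hint _ hm
    refine ⟨a₀ ^ m * s, a * s₀ ^ m, fun h' => ((inferInstance : p.IsPrime).mem_or_mem h').elim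
      (fun h'' => ha₀ ((inferInstance : p.IsPrime).mem_of_pow_mem _ h'')) hs, ?_⟩
    simp only [map_mul, map_pow, ← hr₀, mul_pow, ← h]
    ring
  obtain ⟨G, hG⟩ := Algebra.FiniteType.out (R := A) (A := B)
  choose s a hs hsa using key
  let t := ∏ b ∈ G, s b
  refine ⟨t, fun ht => ?_, fun b => ?_⟩
  · obtain ⟨i, -, hi'⟩ := Ideal.IsPrime.prod_mem_iff.mp ht
    exact hs i hi'
  have hb : b ∈ Algebra.adjoin A (G : Set B) := hG ▸ Algebra.mem_top
  induction hb using Algebra.adjoin_induction with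
  | mem b hbG =>
    refine ⟨1, a b * ∏ c ∈ G.erase b, s c, ?_⟩
    simp only [t]
    rw [pow_one, ← Finset.mul_prod_erase G s (Finset.mem_coe.mp hbG), map_mul, map_mul, ← mul_assoc, hsa]
  | algebraMap c => exact ⟨0, c, by rw [pow_zero, mul_one]⟩
  | add x y _ _ hx hy =>
    obtain ⟨n, c, hc⟩ := hx
    obtain ⟨m, d, hd⟩ := hy
    refine ⟨n + m, c * t ^ m + d * t ^ n, ?_⟩
    rw [map_add, map_mul, map_mul, map_pow, map_pow, ← hc, ← hd, pow_add]
    ring
  | mul x y _ _ hx hy =>
    obtain ⟨n, c, hc⟩ := hx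
    obtain ⟨m, d, hd⟩ := hy
    refine ⟨n + m, c * d, ?_⟩
    rw [map_mul, ← hc, ← hd, pow_add]
    ring

variable {X Y : Scheme.{u}}

/-- An open `V ≤ g ⁻¹ᵁ D` mapped isomorphically onto `D` by a separated morphism is all of
`g ⁻¹ᵁ D` if the source is irreducible. -/
theorem isIso_morphismRestrict_of_section [IrreducibleSpace X] (g : X ⟶ Y) [IsSeparated g]
    (D : Y.Opens) (V : X.Opens) (hVD : V ≤ g ⁻¹ᵁ D) (hne : (V : Set X).Nonempty)
    [IsIso (g.resLE D V hVD)] : IsIso (g ∣_ D) := by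
  let j : (V : Scheme.{u}) ⟶ (g ⁻¹ᵁ D : Scheme.{u}) := X.homOfLE hVD
  have hj : j ≫ (g ∣_ D) = g.resLE D V hVD := by
    simp only [j, ← Scheme.Hom.resLE_eq_morphismRestrict, Scheme.Hom.map_resLE]
  haveI : IsSeparated (g ∣_ D) := inferInstance
  haveI : IsClosedImmersion (j ≫ (g ∣_ D)) := by rw [hj]; infer_instance
  haveI : IsClosedImmersion j := IsClosedImmersion.of_comp j (g ∣_ D)
  haveI : PreirreducibleSpace (g ⁻¹ᵁ D : Scheme.{u}) := by
    refine Subtype.preirreducibleSpace ?_
    exact IsPreirreducible.open_subset PreirreducibleSpace.isPreirreducible_univ (g ⁻¹ᵁ D).2 (Set.subset_univ _)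
  have hr : Set.range j = Set.univ := by
    obtain ⟨x, hx⟩ := hne
    exact IsClopen.eq_univ ⟨j.isClosedEmbedding.isClosed_range, j.isOpenEmbedding.isOpen_range⟩
      ⟨_, ⟨x, hx⟩, rfl⟩
  haveI : Epi j.base := by rw [TopCat.epi_iff_surjective]; exact Set.range_eq_univ.mp hr
  haveI : IsIso j := IsOpenImmersion.isIso j
  haveI : IsIso (j ≫ (g ∣_ D)) := by rw [hj]; infer_instance
  exact IsIso.of_isIso_comp_left j _

theorem exists_isIso_morphismRestrict [IsIntegral X] [IsIntegral Y] (g : X ⟶ Y)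
    [LocallyOfFiniteType g] [IsSeparated g] (e : g (genericPoint X) = genericPoint Y)
    (hb : Function.Bijective (g.stalkMap (genericPoint X)).hom) (x : X)
    [IsIntegrallyClosed (Y.presheaf.stalk (g x))] (hx : g.QuasiFiniteAt x) :
    ∃ D : Y.Opens, g x ∈ D ∧ IsIso (g ∣_ D) := by
  obtain ⟨_, ⟨U, hU, rfl⟩, hxU, -⟩ :=
    Y.isBasis_affineOpens.exists_subset_of_mem_open (Set.mem_univ (g x)) isOpen_univ
  obtain ⟨_, ⟨W, hW, rfl⟩, hxW, hWU⟩ :=
    X.isBasis_affineOpens.exists_subset_of_mem_open (a := x) hxU (g ⁻¹ᵁ U).2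
  have hWU' : W ≤ g ⁻¹ᵁ U := hWU
  haveI : Nonempty W := ⟨⟨x, hxW⟩⟩
  haveI : Nonempty U := ⟨⟨g x, hxU⟩⟩
  have hq := hx.quasiFiniteAt hW hU hWU' hxW
  have hft := g.finiteType_appLE hU hW hWU'
  let q := (hW.primeIdealOf ⟨x, hxW⟩).asIdeal
  let p := (hU.primeIdealOf ⟨g x, hxU⟩).asIdeal
  letI := (g.appLE U W hWU').hom.toAlgebra
  haveI : Algebra.FiniteType Γ(Y, U) Γ(X, W) := hft
  haveI : Algebra.QuasiFiniteAt Γ(Y, U) q := hq
  letI := TopCat.Presheaf.algebra_section_stalk Y.presheaf (⟨g x, hxU⟩ : U)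
  haveI := hU.isLocalization_stalk ⟨g x, hxU⟩
  have hfrac : ∀ b : Γ(X, W), ∃ a s : Γ(Y, U), s ≠ 0 ∧
      b * algebraMap Γ(Y, U) Γ(X, W) s = algebraMap Γ(Y, U) Γ(X, W) a :=
    exists_mul_eq_of_birational g e hb hU hWU'
  have hinj : Function.Injective (algebraMap Γ(Y, U) Γ(X, W)) := by
    have hgX : genericPoint X ∈ W := genericPoint_mem ⟨x, hxW⟩
    have h1 : Function.Injective ((Y.presheaf.germ U _ (hWU' hgX)) ≫ g.stalkMap (genericPoint X)).hom := by
      rw [CommRingCat.hom_comp, RingHom.coe_comp]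
      exact hb.1.comp (germ_injective_of_isIntegral Y _ (hWU' hgX))
    intro s t hst
    apply h1
    simp only [CommRingCat.hom_comp, RingHom.comp_apply]
    erw [Scheme.Hom.germ_stalkMap_apply, Scheme.Hom.germ_stalkMap_apply]
    have := congrArg (X.presheaf.germ W _ hgX) hst
    rw [show algebraMap Γ(Y, U) Γ(X, W) = (g.appLE U W hWU').hom from rfl] at this
    simp only [Scheme.Hom.appLE, CommRingCat.comp_apply, TopCat.Presheaf.germ_res_apply] at this
    exact this
  have hpq : q.comap (algebraMap Γ(Y, U) Γ(X, W)) = p := by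
    have h := IsAffineOpen.comap_primeIdealOf_appLE (f := g) U hU W hW hWU' hxW
    exact congrArg PrimeSpectrum.asIdeal h
  obtain ⟨t, ht, htB⟩ := exists_forall_mul_pow_eq (O := Y.presheaf.stalk (g x)) p q hpq hinj hfrac
  have hD : X.basicOpen (g.appLE U W hWU' t) ≤ g ⁻¹ᵁ Y.basicOpen t := by simp [Scheme.Hom.appLE]
  let D := Y.basicOpen t
  let D' := X.basicOpen (g.appLE U W hWU' t)
  haveI := hU.isLocalization_basicOpen t
  haveI := hW.isLocalization_basicOpen (g.appLE U W hWU' t)
  have hbij : Function.Bijective (g.appLE D D' hD).hom := by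
    rw [IsAffineOpen.appLE_eq_away_map g hU hW hWU' t, CommRingCat.hom_ofHom]
    refine ⟨IsLocalization.map_injective_of_injective _ _ _ hinj, fun z => ?_⟩
    obtain ⟨⟨b, u⟩, hz⟩ := IsLocalization.surj (Submonoid.powers (g.appLE U W hWU' t)) z
    obtain ⟨n, hn⟩ := u.2
    obtain ⟨m, a, ha⟩ := htB b
    refine ⟨IsLocalization.mk' _ a (⟨t ^ (m + n), m + n, rfl⟩ : Submonoid.powers t), ?_⟩
    rw [IsLocalization.Away.map, IsLocalization.map_mk', IsLocalization.mk'_eq_iff_eq_mul]
    show _ = z * algebraMap Γ(X, W) _ ((g.appLE U W hWU').hom (t ^ (m + n)))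
    have hu : (u : Γ(X, W)) = (g.appLE U W hWU' t) ^ n := hn.symm
    rw [hu] at hz
    rw [map_pow, pow_add, map_mul, mul_comm (algebraMap Γ(X, W) _ ((g.appLE U W hWU').hom t ^ m)),
      ← mul_assoc, hz, ← map_mul]
    show algebraMap Γ(X, W) _ (algebraMap Γ(Y, U) Γ(X, W) a) = _
    rw [← ha]
    rfl
  have hgx : g x ∈ D := by
    rw [Scheme.mem_basicOpen Y _ (g x) hxU]
    exact (IsLocalization.AtPrime.isUnit_to_map_iff (Y.presheaf.stalk (g x)) p t).mpr ht
  have hxD' : x ∈ D' := by
    have : x ∈ W ⊓ g ⁻¹ᵁ D := ⟨hxW, hgx⟩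
    simpa [D', D, Scheme.Hom.appLE] using this
  haveI : IsIso (g.appLE D D' hD) := (ConcreteCategory.isIso_iff_bijective _).mpr hbij
  haveI : IsIso (g.resLE D D' hD) := by
    have hDa : IsAffineOpen D := hU.basicOpen t
    have hD'a : IsAffineOpen D' := hW.basicOpen _
    have h1 := IsAffineOpen.SpecMap_appLE_fromSpec g hDa hD'a hD
    have h2 : g.resLE D D' hD = hD'a.isoSpec.hom ≫ Spec.map (g.appLE D D' hD) ≫ hDa.isoSpec.inv := by
      rw [← cancel_mono D.ι, Scheme.Hom.resLE_comp_ι, Category.assoc, Category.assoc,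
        IsAffineOpen.isoSpec_inv_ι, h1, IsAffineOpen.isoSpec_hom_fromSpec_assoc]
    rw [h2]
    infer_instance
  exact ⟨D, hgx, isIso_morphismRestrict_of_section g D D' hD ⟨x, hxD'⟩⟩

end GrothLib.Birat
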